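import Groth.Agent.L27.Colim.FreeSheaf
import Groth.Agent.L28.ExtShriek.Compact
import Groth.Agent.L28.ExtShriek.Killed
import Groth.Agent.L28.ExtShriek.Effaceable
import Groth.Agent.S6641

/-! # Extensions of constructible sheaves commute with filtered colimits -/

set_option autoImplicit false
set_option linter.style.haveILetI false
set_option linter.unusedSectionVars false
set_option backward.isDefEq.respectTransparency.types false

universe u

open CategoryTheory CategoryTheory.Limits AlgebraicGeometry Opposite CategoryTheory.Abelian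

noncomputable section

namespace Groth.L28.ExtCommute

open Groth.L27.Colim

section Gen

universe w v' u'

variable {C : Type u'} [Category.{v'} C] [Abelian C] [HasExt.{w} C]

/-- The map induced on extensions. -/
abbrev Emap {Z F G : C} (f : F ⟶ G) (n : ℕ) : Ext.{w} Z F n →+ Ext.{w} Z G n := (Ext.mk₀ f).postcomp Z (add_zero n)

theorem Emap_apply {Z F G : C} (f : F ⟶ G) {n : ℕ} (x : Ext.{w} Z F n) :
    Emap f n x = x.comp (Ext.mk₀ f) (add_zero n) := rfl

theorem map_id_apply {Z F : C} {n : ℕ} (x : Ext.{w} Z F n) : Emap (𝟙 F) n x = x := by simp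

theorem map_comp_apply {Z F G H : C} (f : F ⟶ G) {n : ℕ} (g : G ⟶ H) (x : Ext.{w} Z F n) :
    Emap (f ≫ g) n x = Emap g n (Emap f n x) := by simp

/-- The structure map of a cocone, with the vertex as codomain. -/
abbrev inj {Λ : Type u} [SmallCategory Λ] {D : Λ ⥤ C} (c : Cocone D) (j : Λ) : D.obj j ⟶ c.pt := c.ι.app j

/-- A class in a colimit comes from a stage. -/
def Surj (Z : C) (n : ℕ) {Λ : Type u} [SmallCategory Λ] {D : Λ ⥤ C} (c : Cocone D) : Prop :=
  ∀ ξ : Ext.{w} Z c.pt n, ∃ (j : Λ) (η : Ext.{w} Z (D.obj j) n), Emap (inj c j) n η = ξ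

/-- A class vanishing in a colimit vanishes at a stage. -/
def Inj (Z : C) (n : ℕ) {Λ : Type u} [SmallCategory Λ] {D : Λ ⥤ C} (c : Cocone D) : Prop :=
  ∀ (j : Λ) (η : Ext.{w} Z (D.obj j) n), Emap (inj c j) n η = 0 →
    ∃ (k : Λ) (f : j ⟶ k), Emap (D.map f) n η = 0

section Stages

variable {Λ : Type u} [SmallCategory Λ] [IsFiltered Λ] {D : Λ ⥤ C} {c : Cocone D}

theorem Emap_w {Z : C} {n : ℕ} {j k : Λ} (f : j ⟶ k) (η : Ext.{w} Z (D.obj j) n) :
    Emap (inj c k) n (Emap (D.map f) n η) = Emap (inj c j) n η := by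
  rw [← map_comp_apply]
  exact congrArg (fun g : D.obj j ⟶ c.pt => Emap g n η) (c.w f)

theorem mk₀_comp_Emap {A B : C} (g : A ⟶ B) {G H : C} (φ : G ⟶ H) {n : ℕ}
    (x : Ext.{w} B G n) :
    (Ext.mk₀ g).comp (Emap φ n x) (zero_add n) = Emap φ n ((Ext.mk₀ g).comp x (zero_add n)) :=
  (Ext.comp_assoc_of_third_deg_zero _ _ _ _).symm

theorem extClass_comp_Emap {S : ShortComplex C} (hS : S.ShortExact) {G H : C} (φ : G ⟶ H)
    {n : ℕ} (y : Ext.{w} S.X₁ G n) {m : ℕ} (h : 1 + n = m) :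
    hS.extClass.comp (Emap φ n y) h = Emap φ m (hS.extClass.comp y h) :=
  (Ext.comp_assoc_of_third_deg_zero _ _ _ _).symm

theorem surj_succ {S : ShortComplex C} (hS : S.ShortExact) {n : ℕ} (hA : Surj S.X₂ (n + 1) c)
    (hK1 : Inj S.X₁ (n + 1) c) (hK0 : Surj S.X₁ n c) : Surj S.X₃ (n + 1) c := by
  intro ξ
  obtain ⟨j, η, hη⟩ := hA ((Ext.mk₀ S.g).comp ξ (zero_add _))
  have h0 : Emap (inj c j) (n + 1) ((Ext.mk₀ S.f).comp η (zero_add _)) = 0 := by
    rw [← mk₀_comp_Emap, hη, Ext.mk₀_comp_mk₀_assoc, S.zero, Ext.mk₀_zero, Ext.zero_comp]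
  obtain ⟨k, a, ha⟩ := hK1 j _ h0
  rw [← mk₀_comp_Emap] at ha
  obtain ⟨η', hη'⟩ := Ext.contravariant_sequence_exact₂ hS _ (Emap (D.map a) (n + 1) η) ha
  have hd : (Ext.mk₀ S.g).comp (ξ - Emap (inj c k) (n + 1) η') (zero_add _) = 0 := by
    rw [sub_eq_add_neg, Ext.comp_add, Ext.comp_neg, mk₀_comp_Emap, hη', Emap_w, hη, add_neg_cancel]
  obtain ⟨y, hy⟩ := Ext.contravariant_sequence_exact₃ hS _ _ hd (show 1 + n = n + 1 by omega)
  obtain ⟨l, y', rfl⟩ := hK0 y
  refine ⟨IsFiltered.max k l, Emap (D.map (IsFiltered.leftToMax k l)) (n + 1) η' +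
    Emap (D.map (IsFiltered.rightToMax k l)) (n + 1) (hS.extClass.comp y' (by omega)), ?_⟩
  rw [map_add, Emap_w, Emap_w, ← extClass_comp_Emap, hy]
  abel

theorem inj_succ {S : ShortComplex C} (hS : S.ShortExact) {n : ℕ} (hA1 : Inj S.X₂ (n + 1) c)
    (hA0 : Surj S.X₂ n c) (hK : Inj S.X₁ n c) : Inj S.X₃ (n + 1) c := by
  intro j η hη
  obtain ⟨k, a, ha⟩ := hA1 j ((Ext.mk₀ S.g).comp η (zero_add _)) (by
    rw [← mk₀_comp_Emap, hη, Ext.comp_zero])
  rw [← mk₀_comp_Emap] at ha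
  obtain ⟨y, hy⟩ := Ext.contravariant_sequence_exact₃ hS _ _ ha (show 1 + n = n + 1 by omega)
  obtain ⟨z, hz⟩ := Ext.contravariant_sequence_exact₁ hS _ (Emap (inj c k) n y) (show 1 + n = n + 1 by omega) (by
    rw [extClass_comp_Emap, hy, Emap_w, hη])
  obtain ⟨l, z', rfl⟩ := hA0 z
  let b := IsFiltered.leftToMax k l
  let d := IsFiltered.rightToMax k l
  obtain ⟨r, e, he⟩ := hK (IsFiltered.max k l)
    (Emap (D.map b) n y - Emap (D.map d) n ((Ext.mk₀ S.f).comp z' (zero_add n))) (by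
    rw [map_sub, Emap_w, Emap_w, ← mk₀_comp_Emap, hz, sub_self])
  refine ⟨r, a ≫ b ≫ e, ?_⟩
  have h1 : Emap (D.map e) n (Emap (D.map b) n y) =
      Emap (D.map e) n (Emap (D.map d) n ((Ext.mk₀ S.f).comp z' (zero_add n))) := by
    rwa [map_sub, sub_eq_zero] at he
  rw [D.map_comp, D.map_comp, map_comp_apply, map_comp_apply, ← hy, ← extClass_comp_Emap, ← extClass_comp_Emap, h1,
    ← mk₀_comp_Emap, ← mk₀_comp_Emap]
  exact (Ext.comp_assoc_of_second_deg_zero _ _ _ _).symm.trans (by rw [hS.extClass_comp, Ext.zero_comp])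

theorem biproduct_commutes [HasFiniteBiproducts C] {ι : Type} [Finite ι] {M : ι → C} {n : ℕ}
    (hs : ∀ i, Surj (M i) n c) (hi : ∀ i, Inj (M i) n c) : Surj (⨁ M) n c ∧ Inj (⨁ M) n c := by
  classical
  haveI := Fintype.ofFinite ι
  have htot : ∀ (G : C) (x : Ext.{w} (⨁ M) G n),
      x = ∑ i, (Ext.mk₀ (biproduct.π M i)).comp ((Ext.mk₀ (biproduct.ι M i)).comp x (zero_add n)) (zero_add n) := by
    intro G x
    let Φ : (⨁ M ⟶ ⨁ M) →+ Ext.{w} (⨁ M) G n :=
      AddMonoidHom.mk' (fun f => (Ext.mk₀ f).comp x (zero_add n)) fun f g => by rw [Ext.mk₀_add, Ext.add_comp]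
    calc x = Φ (𝟙 _) := (Ext.mk₀_id_comp x).symm
      _ = ∑ i, Φ (biproduct.π M i ≫ biproduct.ι M i) := by rw [← map_sum, biproduct.total]
      _ = _ := Finset.sum_congr rfl fun i _ => (Ext.mk₀_comp_mk₀_assoc _ _ _).symm
  refine ⟨fun ξ => ?_, fun j η hη => ?_⟩
  · choose j η hη using fun i => hs i ((Ext.mk₀ (biproduct.ι M i)).comp ξ (zero_add n))
    obtain ⟨m, hm⟩ := IsFiltered.sup_objs_exists (Finset.univ.image j)
    refine ⟨m, ∑ i, (Ext.mk₀ (biproduct.π M i)).comp
      (Emap (D.map (hm (Finset.mem_image_of_mem j (Finset.mem_univ i))).some) n (η i)) (zero_add n), ?_⟩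
    rw [map_sum, htot _ ξ]
    refine Finset.sum_congr rfl fun i _ => ?_
    rw [← mk₀_comp_Emap, Emap_w, hη]
  · choose k a hk using fun i => hi i j ((Ext.mk₀ (biproduct.ι M i)).comp η (zero_add n))
      (by rw [← mk₀_comp_Emap, hη, Ext.comp_zero])
    let O : Finset Λ := insert j (Finset.univ.image k)
    let H : Finset (Σ' (a b : Λ) (_ : a ∈ O) (_ : b ∈ O), a ⟶ b) :=
      Finset.univ.image fun i => ⟨j, k i, Finset.mem_insert_self _ _,
        Finset.mem_insert_of_mem (Finset.mem_image_of_mem k (Finset.mem_univ i)), a i⟩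
    obtain ⟨m, T, hT⟩ := IsFiltered.sup_exists O H
    refine ⟨m, T (Finset.mem_insert_self _ _), (htot _ _).trans (Finset.sum_eq_zero fun i _ => ?_)⟩
    rw [← hT _ _ (Finset.mem_image_of_mem _ (Finset.mem_univ i)), D.map_comp, map_comp_apply, mk₀_comp_Emap (biproduct.ι M i),
      mk₀_comp_Emap (biproduct.ι M i), hk i, map_zero, Ext.comp_zero]

theorem Surj.of_iso {A B : C} (e : A ≅ B) {n : ℕ} (h : Surj A n c) : Surj B n c := fun ξ => by
  obtain ⟨j, η, hη⟩ := h ((Ext.mk₀ e.hom).comp ξ (zero_add n))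
  refine ⟨j, (Ext.mk₀ e.inv).comp η (zero_add n), ?_⟩
  rw [← mk₀_comp_Emap, hη, Ext.mk₀_comp_mk₀_assoc, e.inv_hom_id, Ext.mk₀_id_comp]

theorem Inj.of_iso {A B : C} (e : A ≅ B) {n : ℕ} (h : Inj A n c) : Inj B n c := fun j η hη => by
  obtain ⟨k, a, hk⟩ := h j ((Ext.mk₀ e.hom).comp η (zero_add n)) (by rw [← mk₀_comp_Emap, hη, Ext.comp_zero])
  refine ⟨k, a, ?_⟩
  have := congrArg (fun x => (Ext.mk₀ e.inv).comp x (zero_add n)) hk
  simp only [Ext.comp_zero] at this
  rwa [← mk₀_comp_Emap, Ext.mk₀_comp_mk₀_assoc, e.inv_hom_id, Ext.mk₀_id_comp] at this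

end Stages

end Gen

variable {X : Scheme.{u}}

section Zero

variable {Λ : Type u} [SmallCategory Λ] [IsFiltered Λ] {D : Λ ⥤ EtCoh.Ab X} {c : Cocone D}

theorem surj_zero {F : EtCoh.Ab X} (h : ExtShriek.HomCommutes F c) : Surj F 0 c := fun ξ => by
  obtain ⟨f, rfl⟩ := (Ext.mk₀_bijective _ _).2 ξ
  obtain ⟨j, g, hg⟩ := h.1 f
  exact ⟨j, Ext.mk₀ g, by rw [Emap_apply, Ext.mk₀_comp_mk₀, hg]⟩

theorem inj_zero {F : EtCoh.Ab X} (h : ExtShriek.HomCommutes F c) : Inj F 0 c := fun j η hη => by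
  obtain ⟨g, rfl⟩ := (Ext.mk₀_bijective _ _).2 η
  rw [Emap_apply, Ext.mk₀_comp_mk₀] at hη
  obtain ⟨k, a, hk⟩ := h.2 j g ((Ext.mk₀_bijective _ _).1 (hη.trans (Ext.mk₀_zero _ _).symm))
  exact ⟨k, a, by rw [Emap_apply, Ext.mk₀_comp_mk₀, hk, Ext.mk₀_zero]⟩

end Zero

section Atom

/-- The atom as the cokernel of multiplication on the free sheaf. -/
def atomπ (V : X.Etale) (n : ℕ) : freeSh V ⟶ EtPBC.extZeroConst V (ZMod n) :=
  (homEquiv V _).symm (ExtShriek.gen V n)

theorem nsmul_comp_atomπ (V : X.Etale) (n : ℕ) : (n • 𝟙 (freeSh V)) ≫ atomπ V n = 0 := by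
  rw [Preadditive.nsmul_comp, Category.id_comp, atomπ, ← map_nsmul, ExtShriek.nsmul_gen, map_zero]

theorem exists_shortExact_atom (V : X.Etale) {n : ℕ} (hn : n ≠ 0) :
    (ShortComplex.mk (n • 𝟙 (freeSh V)) (atomπ V n) (nsmul_comp_atomπ V n)).ShortExact := by
  haveI : Mono (n • 𝟙 (freeSh V)) := by
    let a := presheafToSheaf X.smallEtaleTopology AddCommGrpCat.{u + 1}
    haveI : a.Additive := (sheafificationAdjunction X.smallEtaleTopology AddCommGrpCat.{u + 1}).left_adjoint_additive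
    haveI := ExtShriek.mono_nsmul_freePre V hn
    haveI : Mono (a.map (n • 𝟙 (freePre V))) := inferInstance
    have h : a.map (n • 𝟙 (freePre V)) = n • 𝟙 (freeSh V) := by
      rw [Functor.map_nsmul, CategoryTheory.Functor.map_id]
    rw [← h]; infer_instance
  have hex : ∀ {G : EtCoh.Ab X} (g : freeSh V ⟶ G), (n • 𝟙 (freeSh V)) ≫ g = 0 →
      ∃ φ : EtPBC.extZeroConst V (ZMod n) ⟶ G, φ.hom.app (op V) (ExtShriek.gen V n) = homEquiv V G g := fun {G} g hg =>
    ExtShriek.exists_hom_of_section V n (homEquiv V G g) (by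
      rw [← map_nsmul, show n • g = 0 by rwa [Preadditive.nsmul_comp, Category.id_comp] at hg, map_zero])
  have hgen : ∀ {G : EtCoh.Ab X} (φ : EtPBC.extZeroConst V (ZMod n) ⟶ G),
      homEquiv V G (atomπ V n ≫ φ) = φ.hom.app (op V) (ExtShriek.gen V n) := fun {G} φ => by
    rw [homEquiv_comp, atomπ, AddEquiv.apply_symm_apply]
  have hc : IsColimit (CokernelCofork.ofπ (atomπ V n) (nsmul_comp_atomπ V n)) :=
    CokernelCofork.IsColimit.ofπ _ _ (fun {G} g hg => (hex g hg).choose)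
      (fun {G} g hg => (homEquiv V G).injective ((hgen _).trans (hex g hg).choose_spec))
      (fun {G} g hg m hm => ExtShriek.ext_gen ((hgen m).symm.trans
        ((congrArg (homEquiv V G) hm).trans (hex g hg).choose_spec.symm)))
  haveI : Epi (atomπ V n) := Cofork.IsColimit.epi hc
  exact { exact := ShortComplex.exact_of_g_is_cokernel _ hc }

end Atom

variable [AlgebraicGeometry.IsNoetherian X]

set_option maxHeartbeats 400000 in
/-- Extensions of constructible sheaves commute with filtered colimits. -/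
theorem commutes {Λ : Type u} [SmallCategory Λ] [IsFiltered Λ] {D : Λ ⥤ EtCoh.Ab X} {c : Cocone D}
    (hc : IsColimit c) : ∀ (n : ℕ) (F : EtCoh.Ab X), EtPBC.IsConstructible F → Surj F n c ∧ Inj F n c := by
  intro n
  induction n with
  | zero =>
    intro F hF
    exact ⟨surj_zero (ExtShriek.homCommutes_of_isConstructible hF hc),
      inj_zero (ExtShriek.homCommutes_of_isConstructible hF hc)⟩
  | succ n ih =>
    have hfree : ∀ (V : X.Etale), Groth.L27.Colim.Qcqs V → ∀ m, Surj (freeSh V) m c ∧ Inj (freeSh V) m c := fun V hV m =>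
      commutes_ext V hV m D c hc
    have hatom : ∀ (V : X.Etale) (m : ℕ), 0 < m → IsAffine V.left →
        Surj (EtPBC.extZeroConst V (ZMod m)) (n + 1) c ∧ Inj (EtPBC.extZeroConst V (ZMod m)) (n + 1) c := by
      intro V m hm hV
      haveI := hV
      have hq : Groth.L27.Colim.Qcqs V := ⟨inferInstance, inferInstance⟩
      have hS := exists_shortExact_atom V hm.ne'
      exact ⟨surj_succ hS (hfree V hq (n + 1)).1 (hfree V hq (n + 1)).2 (hfree V hq n).1,
        inj_succ hS (hfree V hq (n + 1)).2 (hfree V hq n).1 (hfree V hq n).2⟩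
    have key : ∀ F : EtCoh.Ab X, EtPBC.IsConstructible F → ∃ (A : EtCoh.Ab X) (φ : A ⟶ F), Epi φ ∧
        EtPBC.IsConstructible A ∧ Surj A (n + 1) c ∧ Inj A (n + 1) c := by
      intro F hF
      obtain ⟨a, U, m, hU, φ, hφ⟩ := ExtShriek.exists_epi hF
      have hb := biproduct_commutes (fun i => (hatom (U i) (m i) (hU i).1 (hU i).2).1)
        (fun i => (hatom (U i) (m i) (hU i).1 (hU i).2).2)
      exact ⟨_, φ, hφ, ExtShriek.isConstructible_biproduct _
        (fun i => haveI := (hU i).2; ExtShriek.isConstructible_atom (U i) (hU i).1), hb.1, hb.2⟩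
    have hseq : ∀ {A F : EtCoh.Ab X} (φ : A ⟶ F), Epi φ →
        (ShortComplex.mk (kernel.ι φ) φ (kernel.condition φ)).ShortExact := fun {A F} φ hφ =>
      { exact := ShortComplex.exact_of_f_is_kernel _ (kernelIsKernel φ)
        epi_g := hφ }
    have hinj : ∀ F : EtCoh.Ab X, EtPBC.IsConstructible F → Inj F (n + 1) c := by
      intro F hF
      obtain ⟨A, φ, hφ, hA, -, hA1⟩ := key F hF
      exact inj_succ (hseq φ hφ) hA1 (ih A hA).1
        (ih _ (Strata.isConstructible_kernel_cokernel φ hA hF).1).2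
    intro F hF
    obtain ⟨A, φ, hφ, hA, hA1, -⟩ := key F hF
    exact ⟨surj_succ (hseq φ hφ) hA1 (hinj _ (Strata.isConstructible_kernel_cokernel φ hA hF).1)
      (ih _ (Strata.isConstructible_kernel_cokernel φ hA hF).1).1, hinj F hF⟩

/-- Extensions of a constructible sheaf by a coproduct vanish when those by the summands do. -/
theorem subsingleton_ext_coprod {α : Type u} (G : α → EtCoh.Ab X) (F : EtCoh.Ab X) (hF : EtPBC.IsConstructible F)
    (n : ℕ) (h : ∀ a, Subsingleton (Ext.{u + 1} F (G a) n)) (c : Cofan G) (hc : IsColimit c) :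
    Subsingleton (Ext.{u + 1} F c.pt n) := by
  haveI : HasColimitsOfSize.{u, u} (EtCoh.Ab X) := hasColimitsOfSizeShrink.{u, u, u + 1, u + 1} _
  let L := CoproductsFromFiniteFiltered.liftToFinsetObj (Discrete.functor G)
  have hs := (commutes (colimit.isColimit L) n F hF).1
  let e := IsColimit.coconePointUniqueUpToIso hc
    (CoproductsFromFiniteFiltered.liftToFinsetColimitCocone (Discrete.functor G)).isColimit
  refine subsingleton_of_forall_eq 0 fun x => ?_
  obtain ⟨S, η, hη⟩ := hs (Emap e.hom n x)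
  have hη0 : η = 0 := by
    classical
    let f : ↥S → EtCoh.Ab X := fun a => G a.1.as
    let i : (⨁ f) ≅ L.obj S := biproduct.isoCoproduct f
    let Φ : ((⨁ f) ⟶ (⨁ f)) →+ Ext.{u + 1} F (⨁ f) n :=
      AddMonoidHom.mk' (fun g => Emap g n (Emap i.inv n η)) fun g g' => by
        simp only [Emap_apply, Ext.mk₀_add, Ext.comp_add]
    have h0 : Emap i.inv n η = 0 := by
      rw [← map_id_apply (Emap i.inv n η)]
      show Φ (𝟙 _) = 0
      rw [← IsBilimit.total (biproduct.isBilimit f), map_sum]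
      refine Finset.sum_eq_zero fun a _ => ?_
      show Emap (biproduct.π f a ≫ biproduct.ι f a) n _ = 0
      rw [map_comp_apply]
      haveI := h a.1.as
      rw [Subsingleton.elim (α := Ext.{u + 1} F (f a) n) (Emap (biproduct.π f a) n (Emap i.inv n η)) 0, map_zero]
    rw [← map_id_apply η, ← i.inv_hom_id, map_comp_apply, h0, map_zero]
  rw [← map_id_apply x, ← e.hom_inv_id, map_comp_apply]
  refine (congrArg (Emap e.inv n) (hη.symm.trans ?_)).trans (map_zero _)
  exact (congrArg (Emap (inj (colimit.cocone L) S) n) hη0).trans (map_zero _)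

end Groth.L28.ExtCommute
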